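/-
The monomial subgroup of `SL_n(q)`, `n ≥ 4`: elements mapping a coordinate point to a coordinate
point.
-/
import Cfsg.Agent.Geom.SLDec

set_option autoImplicit false
set_option linter.unusedSectionVars false

namespace CF.MaxSub

open Module Geom

variable {F : Type*} [Field F] {ι : Type} [Fintype ι] [DecidableEq ι]
  {M : Subgroup ((ι → F) ≃ₗ[F] (ι → F))}

/-- The context for overgroups of the monomial subgroup of `SL`. -/
structure SC4 (M : Subgroup ((ι → F) ≃ₗ[F] (ι → F))) : Prop where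
  le : SLG F (ι → F) ⊓ MonG ι F ≤ M
  n4 : 4 ≤ Fintype.card ι
  q5 : 5 ≤ Nat.card F

namespace SC4

variable [Finite F]

theorem dd (h : SC4 M) (i j : ι) (a : Fˣ) : Geom.dd i j a ∈ M := h.le (dd_mem i j a)

theorem fresh (h : SC4 M) (a b c : ι) : ∃ l, l ≠ a ∧ l ≠ b ∧ l ≠ c := by
  obtain ⟨l, hl⟩ := exists_notMem_list [a, b, c] (lt_of_lt_of_le (by simp) h.n4)
  exact ⟨l, by simpa [not_or] using hl⟩

theorem sw (h : SC4 M) {a b : ι} (hab : a ≠ b) (l : ι) : swp hab 1 1 * hm l (-1) ∈ M :=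
  h.le ⟨mem_SLG.2 (by rw [det_mul_equiv, det_hm, det_swp]; simp),
    mul_mem (swp_mem_MonG _ _ _) (hm_mem_MonG _ _)⟩

theorem le_of_hasRt (h : SC4 M) (hR : HasRt M) : SLG F (ι → F) ≤ M := by
  obtain ⟨i, j, c, hij, hc, hR⟩ := hR
  have h1 : ∀ a : F, R1 M (a • pr F j) (ee F i) := fun a => by
    by_cases ha : a = 0
    · simpa [ha] using R1.zero (ee F i)
    obtain ⟨l, l1, l2, -⟩ := h.fresh i j i
    refine (hR.conj (h.dd i l (Units.mk0 (a / c) (div_ne_zero ha hc))) (ψ := c • pr F j)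
      (fun x => by simp [dd_ne _ _ hij.symm l2.symm]) rfl).congr fun x => ?_
    rw [dd_apply l1.symm, ee_self, ee_ne i l1]
    simp only [LinearMap.smul_apply, LinearMap.proj_apply, smul_eq_mul, Units.val_mk0]
    match_scalars <;> field_simp <;> ring
  have h2 : ∀ i j a b : ι, (∀ c : F, R1 M (c • pr F j) (ee F i)) →
      ∀ c : F, R1 M (c • pr F (Equiv.swap a b j)) (ee F (Equiv.swap a b i)) := by
    intro i j a b hR c
    by_cases hab : a = b
    · simpa [hab] using hR c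
    obtain ⟨l, l1, l2, -⟩ := h.fresh i j i
    refine (hR c).conj (h.sw hab l) (fun x => ?_) (funext fun r => ?_)
    · simp [swp_one, hm_ne l _ _ l2.symm]
    · rw [LinearEquiv.mul_apply, hm_of_eq_zero _ _ (ee_ne i l1), swp_one]
      simp [Pi.single_apply, Equiv.swap_apply_eq_iff]
  refine SLG_le_of_basis (Pi.basisFun F ι) fun k l hkl a hv => R1.tvE_mem ?_ hv
  have h3 := h2 _ _ (Equiv.swap i k j) l (h2 i j i k h1) a
  rw [Equiv.swap_apply_left, Equiv.swap_apply_left, Equiv.swap_apply_of_ne_of_ne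
    (fun e => hij (by rw [Equiv.swap_apply_eq_iff.1 e.symm, Equiv.swap_apply_right])) hkl] at h3
  exact h3.congr fun x => by simp [smul_smul, mul_comm]

theorem hasRt_of_cen (h : SC4 M) {χ : Dual F (ι → F)} {o r : ι} {c : F} (hc : c ≠ 0)
    (hR : R1 M χ (c • ee F o)) (h0 : χ (ee F o) = 0) (hr : χ (ee F r) ≠ 0) : HasRt M := by
  obtain ⟨μ, hμ, -⟩ := exists_unit_sq_ne h.q5
  have ro : r ≠ o := by rintro rfl; exact hr h0
  obtain ⟨l, l1, l2, -⟩ := h.fresh o r o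
  obtain ⟨k, k1, k2, k3⟩ := h.fresh o r l
  have r1 := (hR.conj (h.dd r l μ⁻¹) (ψ := χ ∘ₗ (Geom.dd r l μ).toLinearMap)
    (fun x => by simp [dd_dd_inv l2.symm]) (dd_of_eq_zero _ (by simp [ee_ne o ro])
      (by simp [ee_ne o l1]))).sub_right hR (c := 1) (by simp [h0])
    (χ := (((μ : F) - 1) * χ (ee F r)) • pr F r + (((μ : F)⁻¹ - 1) * χ (ee F l)) • pr F l)
    (fun x => by simp [dd_apply l2.symm]; ring)
  have r2 := (r1.conj (h.dd r k μ⁻¹) (ψ := (μ * (((μ : F) - 1) * χ (ee F r))) • pr F r +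
      (((μ : F)⁻¹ - 1) * χ (ee F l)) • pr F l)
    (fun x => by simp [dd_left k2.symm, dd_ne _ _ l2 k3.symm]; field_simp)
    (dd_of_eq_zero _ (by simp [ee_ne o ro]) (by simp [ee_ne o k1]))).sub_right r1 (c := 1)
    (by simp [ee_ne o ro, ee_ne o l1])
    (χ := (((μ : F) - 1) * (((μ : F) - 1) * χ (ee F r))) • pr F r) (fun x => by simp; ring)
  refine ⟨o, r, ((μ : F) - 1) * (((μ : F) - 1) * χ (ee F r)) * c, ro.symm,
    by simp [sub_eq_zero, hμ, hr, hc], r2.congr fun x => ?_⟩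
  simp only [LinearMap.smul_apply, LinearMap.proj_apply, smul_eq_mul]; module

theorem hasRt_of_res (h : SC4 M) {g g' : (ι → F) ≃ₗ[F] (ι → F)} (hg : g ∈ M) (hg' : g' ∈ M)
    {o r : ι} (e : ∀ x l, l ≠ o → g' x l = g x l) (h0 : ∀ l, l ≠ o → g (ee F o) l = 0)
    (h1 : g' (ee F o) o = g (ee F o) o) (hr : g' (ee F r) o ≠ g (ee F r) o) : HasRt M := by
  have h2 := eq_smul_ee h0
  have h3 : g (ee F o) o ≠ 0 := fun e => ee_ne_zero (F := F) o (g.map_eq_zero_iff.1 (by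
    rw [h2, e, zero_smul]))
  refine h.hasRt_of_cen (o := o) (inv_ne_zero h3) (R1.of_diff hg hg' (v := ee F o)
    (χ := pr F o ∘ₗ (g'.toLinearMap - g.toLinearMap)) (fun x => funext fun l => ?_) ?_)
    (by simp [h1]) (r := r) (by simpa [sub_eq_zero] using hr)
  · by_cases hl : l = o
    · simp [hl]
    · simp [e x l hl, ee_ne o hl]
  · rw [map_smul, h2, smul_smul]; simp [h3]

theorem gctx (h : SC4 M) (hn : ¬ HasRt M) (o : ι) : GCtx (Qt (res F o) M) := by
  refine ⟨fun i a => ⟨_, h.dd i o a, fun v => funext fun l => ?_⟩,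
    fun a b hab => ⟨_, h.sw (Subtype.coe_ne_coe.2 hab) o, fun v => funext fun l => ?_⟩, ?_, h.q5⟩
  · by_cases hl : l = i
    · rw [hl, hm_self, res_apply, res_apply, dd_left i.2]
    · rw [hm_ne _ _ _ hl, res_apply, res_apply, dd_ne _ _ (Subtype.coe_ne_coe.2 hl) l.2]
  · rw [res_apply, LinearEquiv.mul_apply, swp_one, swp_one, res_apply,
      ← Subtype.val_injective.map_swap, hm_ne _ _ _ (Equiv.swap a b l).2]
  rintro ⟨j, k, c, hjk, hc, x, ⟨g, hg, e⟩, hx⟩
  obtain ⟨μ, hμ, hμ2⟩ := exists_unit_sq_ne h.q5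
  have hjk' : j.1 ≠ k.1 := Subtype.coe_ne_coe.2 hjk
  have e1 : ∀ v l, l ≠ o → g v l = v l + c * v k * ee F j.1 l := fun v l hl => by
    simpa [hx, res_apply, Pi.single_apply, Subtype.ext_iff] using congrFun (e v) ⟨l, hl⟩
  have e0 : ∀ l, l ≠ o → g (ee F o) l = 0 := fun l hl => by
    simp [e1 _ l hl, ee_ne o hl, ee_ne o k.2]
  obtain ⟨l, l1, l2, l3⟩ := h.fresh o j k
  have e2 : ∀ r, r ≠ o → g (ee F r) o = 0 := fun r hr => by_contra fun h0 => hn (by
    refine h.hasRt_of_res hg (mul_mem (mul_mem (h.dd o l μ) hg) (h.dd o l μ⁻¹)) (r := r)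
      (fun v s hs => ?_) e0 ?_ ?_ <;> simp only [LinearEquiv.mul_apply]
    · by_cases s1 : s = l
      · rw [s1, dd_right l1.symm, e1 _ _ l1, e1 _ _ l1, ee_ne _ l2, dd_right l1.symm]; simp
      · rw [dd_ne _ _ hs s1, e1 _ _ hs, e1 _ _ hs, dd_ne _ _ hs s1, dd_ne _ _ k.2 l3.symm]
    · rw [dd_left l1.symm, dd_apply l1.symm, ee_ne o l1]; simp; field_simp; ring
    · rw [dd_left l1.symm, dd_apply l1.symm, ee_ne r hr.symm]
      by_cases s1 : r = l
      · subst s1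
        simp only [ee_self, map_add, map_smul, Pi.add_apply, Pi.smul_apply, smul_eq_mul,
          Units.val_inv_eq_inv_val, inv_inv]
        exact fun e => hμ2 (mul_right_cancel₀ h0 (by linear_combination e))
      · rw [ee_ne r (Ne.symm s1)]
        simp only [mul_zero, zero_smul, add_zero]
        exact fun e => hμ (mul_right_cancel₀ h0 (by linear_combination e)))
  have e3 : ∀ v, g v o = v o * g (ee F o) o := fun v => by
    have := dual_eq_sum (pr F o ∘ₗ (g : (ι → F) →ₗ[F] (ι → F))) v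
    simp only [LinearMap.comp_apply, LinearEquiv.coe_coe, LinearMap.proj_apply] at this
    rw [this, Finset.sum_eq_single o (fun r _ hr => by simp [e2 r hr]) (by simp)]
  refine hn ⟨j, k, (μ - 1) * c, hjk', by simp [sub_eq_zero, hμ, hc],
    R1.of_diff hg (mul_mem (mul_mem (h.dd j l μ) hg) (h.dd j l μ⁻¹)) (v := ee F j.1)
      (fun v => funext fun s => ?_) (funext fun s => ?_)⟩
  · simp only [LinearEquiv.mul_apply, Pi.add_apply, Pi.smul_apply, LinearMap.smul_apply,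
      LinearMap.proj_apply, smul_eq_mul]
    by_cases s0 : s = o
    · rw [s0, dd_ne _ _ j.2.symm l1.symm, e3, e3 v, dd_ne _ _ j.2.symm l1.symm, ee_ne _ j.2.symm]
      simp
    by_cases s1 : s = l
    · rw [s1, dd_right l2.symm, e1 _ _ l1, e1 _ _ l1, ee_ne _ l2, dd_right l2.symm]; simp
    by_cases s2 : s = j
    · rw [s2, dd_left l2.symm, e1 _ _ j.2, e1 _ _ j.2, dd_left l2.symm,
        dd_ne _ _ hjk'.symm l3.symm]
      simp; field_simp; ring
    · rw [dd_ne _ _ s2 s1, e1 _ _ s0, e1 _ _ s0, dd_ne _ _ s2 s1, ee_ne _ s2]; simp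
  · by_cases s0 : s = o
    · rw [s0, e2 _ j.2, ee_ne _ j.2.symm]
    · simp [e1 _ _ s0, ee_ne _ hjk'.symm]

theorem mon_of_fix (h : SC4 M) (hn : ¬ HasRt M) {g : (ι → F) ≃ₗ[F] (ι → F)} (hg : g ∈ M) {o : ι}
    (h0 : ∀ l, l ≠ o → g (ee F o) l = 0) : g ∈ MonG ι F := by
  obtain ⟨x, hx⟩ := exists_induced h0
  obtain ⟨ρ, κ, -, h1, h2⟩ := exists_of_mem_MonG ((h.gctx hn o).le_MonG (by
    have := h.n4
    simp only [ne_eq, Fintype.card_subtype_compl, Fintype.card_unique]; omega) ⟨g, hg, hx⟩)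
  obtain ⟨μ, -, hμ⟩ := exists_unit_sq_ne h.q5
  have h3 : ∀ v (s : {j // j ≠ o}), g v (ρ s) = κ s * v s := fun v s => by
    rw [← res_apply o (g v), hx, h2, res_apply]
  refine mem_MonG_of fun u => ?_
  by_cases hu : u = o
  · exact ⟨o, hu ▸ h0⟩
  refine ⟨ρ ⟨u, hu⟩, fun l hl => ?_⟩
  by_cases lo : l = o
  · refine by_contra fun h4 => hn (h.hasRt_of_res (mul_mem (h.dd (ρ ⟨u, hu⟩) o μ) hg)
      (mul_mem hg (h.dd u o μ)) (o := o) (r := u) (fun v s hs => ?_) (fun s hs => ?_) ?_ ?_) <;>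
      simp only [LinearEquiv.mul_apply]
    · obtain ⟨t, ht⟩ := ρ.surjective ⟨s, hs⟩
      obtain rfl : (ρ t).1 = s := congrArg Subtype.val ht
      by_cases e : t = ⟨u, hu⟩
      · rw [h3, e, dd_left (ρ _).2, dd_left hu, h3]; ring
      · rw [h3, dd_ne _ _ (Subtype.coe_ne_coe.2 (ρ.injective.ne e)) hs, h3,
          dd_ne _ _ (fun e' => e (Subtype.ext e')) t.2]
    · by_cases e : s = ρ ⟨u, hu⟩
      · rw [e, dd_left (ρ _).2, h0 _ (ρ _).2, mul_zero]
      · rw [dd_ne _ _ e hs, h0 s hs]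
    · rw [dd_right (ρ _).2, dd_apply hu, ee_ne o hu]; simp; ring
    · rw [dd_right (ρ _).2, dd_apply hu, ee_ne u (Ne.symm hu), ← lo]
      simp only [ee_self, map_add, map_smul, Pi.add_apply, Pi.smul_apply, smul_eq_mul, mul_zero,
        zero_mul, add_zero]
      refine fun e => hμ ?_
      field_simp at e
      linear_combination e
  · obtain ⟨t, ht⟩ := ρ.surjective ⟨l, lo⟩
    obtain rfl : (ρ t).1 = l := congrArg Subtype.val ht
    rw [h3, ee_ne u fun e => hl (by rw [show t = ⟨u, hu⟩ from Subtype.ext e]), mul_zero]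

theorem mon_of_pt (h : SC4 M) (hn : ¬ HasRt M) {g : (ι → F) ≃ₗ[F] (ι → F)} (hg : g ∈ M)
    {i j : ι} (h0 : ∀ l, l ≠ j → g (ee F i) l = 0) : g ∈ MonG ι F := by
  by_cases hij : i = j
  · exact h.mon_of_fix hn hg (hij ▸ h0)
  obtain ⟨l, l1, l2, -⟩ := h.fresh i j i
  refine (Subgroup.mul_mem_cancel_left _ (mul_mem (swp_mem_MonG hij 1 1)
    (hm_mem_MonG l (-1)))).1 (h.mon_of_fix hn (mul_mem (h.sw hij l) hg) (o := i) fun s hs => ?_)
  rw [LinearEquiv.mul_apply, LinearEquiv.mul_apply, hm_of_eq_zero _ _ (h0 l l2), swp_one]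
  exact h0 _ fun e => hs (by rw [Equiv.swap_apply_eq_iff.1 e, Equiv.swap_apply_right])

end SC4

end CF.MaxSub
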