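/-
Subfield subgroups of classical groups in dimension four: point stabilisers.
-/
import Cfsg.Agent.MaxSub.T4J

set_option autoImplicit false
set_option linter.unusedSectionVars false

namespace CF.MaxSub

open Module Geom

variable {F V : Type*} [Field F] [AddCommGroup V] [Module F V] {ι : Type} [Fintype ι]
  {σ : F →+* F} {ε : V ≃ₗ[F] (ι → F)} {F₀ : Subfield F}

/-- A form with a rational structure. -/
structure RF4 (B : V →ₛₗ[σ] V →ₗ[F] F) (Q : V → F) (G : Subgroup (V ≃ₗ[F] V))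
    (ε : V ≃ₗ[F] (ι → F)) (F₀ : Subfield F) : Prop where
  polar : PolarG B Q G
  invol : ∀ a, σ (σ a) = a
  sig : ∀ a ∈ F₀, σ a ∈ F₀
  ratB : ∀ x y, IsRat ε F₀ x → IsRat ε F₀ y → B x y ∈ F₀
  slide : ∀ p y, IsRat ε F₀ p → IsRat ε F₀ y → Q p = Q 0 → B p y ≠ 0 →
    ∃ c ∈ F₀, Q (y + c • p) = Q 0
  exists_sing : ∃ e, IsRat ε F₀ e ∧ Q e = Q 0 ∧ e ≠ 0
  four : 4 ≤ finrank F V
  ne_top : F₀ ≠ ⊤

namespace RF4

variable [Finite F] {B : V →ₛₗ[σ] V →ₗ[F] F} {Q : V → F} {G : Subgroup (V ≃ₗ[F] V)}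
  (h : RF4 B Q G ε F₀)
include h

theorem fd : FiniteDimensional F V := ε.symm.finiteDimensional

theorem witt : IsWittPair σ B Q := h.polar.witt

theorem exists_not_perp {S : Set V} (hS : ∀ s ∈ S, IsRat ε F₀ s) {y : V}
    (hy : y ∉ Submodule.span F S) : ∃ x, IsRat ε F₀ x ∧ (∀ s ∈ S, B s x = 0) ∧ B y x ≠ 0 := by
  have := h.fd
  obtain ⟨w, h1, h2⟩ := h.witt.exists_dual_vec hy
  obtain ⟨x, h3, h4, h5⟩ := exists_rat_notMem h.ratB hS
    (fun s hs => h2 s (Submodule.subset_span hs)) (Z := perp B (F ∙ y))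
    (by rw [mem_perp_singleton, h1]; exact one_ne_zero)
  exact ⟨x, h3, h4, fun e => h5 (mem_perp_singleton.2 e)⟩

theorem exists_dual {S : Set V} (hS : ∀ s ∈ S, IsRat ε F₀ s) {y : V} (hy' : IsRat ε F₀ y)
    (hy : y ∉ Submodule.span F S) : ∃ x, IsRat ε F₀ x ∧ (∀ s ∈ S, B s x = 0) ∧ B y x = 1 := by
  obtain ⟨x, h1, h2, h3⟩ := h.exists_not_perp hS hy
  exact ⟨(B y x)⁻¹ • x, h1.smul (inv_mem (h.ratB _ _ hy' h1)), fun s hs => by simp [h2 s hs],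
    by simp [h3]⟩

theorem exists_partner {S : Set V} (hS : ∀ s ∈ S, IsRat ε F₀ s) {y : V} (hy' : IsRat ε F₀ y)
    (q : Q y = Q 0) (hy : y ∉ Submodule.span F S) (hp : ∀ s ∈ S, B s y = 0) :
    ∃ x, IsRat ε F₀ x ∧ Q x = Q 0 ∧ (∀ s ∈ S, B s x = 0) ∧ B y x = 1 := by
  obtain ⟨x, h1, h2, h3⟩ := h.exists_dual hS hy' hy
  obtain ⟨c, hc, h4⟩ := h.slide y x hy' h1 q (by simp [h3])
  exact ⟨x + c • y, h1.add (hy'.smul hc), h4, fun s hs => by simp [h2 s hs, hp s hs],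
    by simp [h3, h.witt.self_eq_zero q]⟩

theorem exists_hyp {e : V} (he : IsRat ε F₀ e) (q : Q e = Q 0) (h0 : e ≠ 0) :
    ∃ f, IsRat ε F₀ f ∧ Q f = Q 0 ∧ B e f = 1 :=
  let ⟨f, h1, h2, _, h3⟩ := h.exists_partner (S := ∅) (by simp) he q (by simpa using h0) (by simp)
  ⟨f, h1, h2, h3⟩

theorem perp₁ {a b : V} (ha : IsRat ε F₀ a) (hb : IsRat ε F₀ b) :
    ∃ c, IsRat ε F₀ c ∧ B a c = 0 ∧ B b c = 0 ∧ c ∉ F ∙ a :=
  Geom.exists_rat_perp h.witt h.ratB ha hb (by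
    have := finrank_span_singleton_le (F := F) a; have := h.four; omega)

theorem perp₂ {a b : V} (ha : IsRat ε F₀ a) (hb : IsRat ε F₀ b) (q : Q a = Q 0) (q' : Q b = Q 0)
    (e0 : B a b ≠ 0) : ∃ c, IsRat ε F₀ c ∧ B a c = 0 ∧ B b c = 0 ∧ c ∉ Submodule.span F {a, b} := by
  obtain ⟨c, c1, c3, c4, c5⟩ := h.perp₁ ha hb
  refine ⟨c, c1, c3, c4, fun e2 => ?_⟩
  obtain ⟨a, b, rfl⟩ := Submodule.mem_span_pair.1 e2
  simp [h.witt.self_eq_zero q, h.witt.self_eq_zero q', e0, mt h.witt.refl e0] at c3 c4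
  simp [c3, c4] at c5

theorem rat_mod {e y : V} (he : IsRat ε F₀ e)
    (hy : ∀ x, IsRat ε F₀ x → B e x = 0 → B x y ∈ F₀) : ∃ y₀, IsRat ε F₀ y₀ ∧ y - y₀ ∈ F ∙ e := by
  obtain ⟨y₀, h1, h2⟩ := exists_retract h.ratB y
  refine ⟨y₀, h1, by_contra fun hc => ?_⟩
  obtain ⟨x, h3, h4, h5⟩ := h.exists_not_perp (S := {e}) (by simpa using he) hc
  exact h5 (h.witt.refl (by rw [map_sub, h2 x h3 (hy x h3 (h4 e rfl)), sub_self]))

theorem rat_of {y : V} (hy : ∀ x, IsRat ε F₀ x → B x y ∈ F₀) : IsRat ε F₀ y := by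
  obtain ⟨y₀, h1, h2⟩ := h.rat_mod (e := 0) IsRat.zero fun x hx _ => hy x hx
  rwa [show y = y₀ from sub_eq_zero.1 (by simpa using h2)]

theorem span_sing {e z : V} (he : IsRat ε F₀ e) (hz : IsRat ε F₀ z) (q : Q z = Q 0)
    (hez : B e z = 0) (hz' : z ∉ F ∙ e) {P : V → Prop} (hadd : ∀ a b, P a → P b → P (a + b))
    (hsm : ∀ c ∈ F₀, ∀ a, P a → P (c • a)) (h1 : P z)
    (h2 : ∀ s, IsRat ε F₀ s → Q s = Q 0 → B e s = 0 → B z s ≠ 0 → P s) {w : V}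
    (hw : IsRat ε F₀ w) (hew : B e w = 0) : P w := by
  have key : ∀ w, IsRat ε F₀ w → B e w = 0 → B z w ≠ 0 → P w := fun w hw hew h0 => by
    obtain ⟨c, hc, h3⟩ := h.slide z w hz hw q h0
    simpa using hadd _ _ (h2 _ (hw.add (hz.smul hc)) h3 (by simp [hew, hez])
      (by simpa [h.witt.self_eq_zero q] using h0)) (hsm (-c) (neg_mem hc) _ h1)
  by_cases h0 : B z w = 0
  · obtain ⟨v, v1, v2, v3⟩ := h.exists_dual (S := {e}) (by simpa using he) hz hz'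
    simpa using hadd _ _ (key (w + v) (hw.add v1) (by simp [hew, v2 e rfl]) (by simp [h0, v3]))
      (hsm (-1) (neg_mem (one_mem _)) _ (key v v1 (v2 e rfl) (by simp [v3])))
  · exact key w hw hew h0

theorem exists_sing_not_perp {v : V} (hv : v ≠ 0) :
    ∃ e, IsRat ε F₀ e ∧ Q e = Q 0 ∧ B e v ≠ 0 := by
  by_contra! hc
  obtain ⟨z, z1, z2, z3⟩ := h.exists_sing
  obtain ⟨x, h1, -, h2⟩ := h.exists_not_perp (S := ∅) (by simp) (y := v) (by simpa using hv)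
  exact h2 (h.witt.refl (h.span_sing (e := 0) IsRat.zero z1 z2 (by simp) (by simpa using z3)
    (P := fun a => B a v = 0) (fun a b ha hb => by simp [ha, hb])
    (fun c _ a ha => by simp [ha]) (hc z z1 z2) (fun s s1 s2 _ _ => hc s s1 s2) h1 (by simp)))

theorem ratM_of_Rad {e y : V} (he : IsRat ε F₀ e) (q : Q e = Q 0) {k : V ≃ₗ[F] V}
    (hk : k ∈ Rad B Q e ⊤) (hy : IsRat ε F₀ y) (hy' : IsRat ε F₀ (k y)) (h0 : B e y ≠ 0) :
    RatM ε F₀ k := fun v hv => by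
  have c1 := inv_mem (h.ratB _ _ he hy)
  obtain ⟨l, h1, h2⟩ := h.witt.Rad_perp_eq q hk (f := y) (w := k y - y)
    (x := v - (B e v * (B e y)⁻¹) • y) (by simp) (by simp [h0])
  have c2 := mul_mem (h.ratB _ _ he hv) c1
  have h3 : B y e ≠ 0 := fun e => h0 (h.witt.refl e)
  have c3 : l ∈ F₀ := by
    rw [← mul_div_cancel_right₀ l h3, h2]
    exact div_mem (neg_mem (h.ratB _ _ (hy'.sub hy) (hv.sub (hy.smul c2)))) (h.ratB _ _ hy he)
  rw [map_sub, map_smul, sub_eq_iff_eq_add] at h1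
  exact h1 ▸ ((hv.sub (hy.smul c2)).add (he.smul c3)).add (hy'.smul c2)

theorem exists_ratRad₀ {e : V} (he : IsRat ε F₀ e) (q : Q e = Q 0) (h0 : e ≠ 0) :
    ∃ a ∈ F₀, a ≠ 0 ∧ ∀ w, IsRat ε F₀ w → B e w = 0 → ∃ k ∈ Rad B Q e ⊤, RatM ε F₀ k ∧
      (∀ f, B e f = 1 → k f - f - w ∈ F ∙ e) ∧ ∀ x, B e x = 0 → k x = x + (a * B w x) • e := by
  have := h.fd
  obtain ⟨f, f1, f2, f3⟩ := h.exists_hyp he q h0
  have h3 : B f e ≠ 0 := fun e => by simp [h.witt.refl e] at f3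
  refine ⟨-(B f e)⁻¹, neg_mem (inv_mem (h.ratB _ _ f1 he)), by simpa using h3, fun w hw hew => ?_⟩
  obtain ⟨c, hc, h1⟩ := h.slide e (f + w) he (f1.add hw) q (by simp [f3, hew])
  obtain ⟨k, hk, e1⟩ := h.witt.exists_Rad q (A := ⊤) trivial (y := f) (y' := f + w + c • e)
    (by simp [f3]) (by simp [hew, h.witt.self_eq_zero q]) (h1.trans f2.symm) trivial
  have e2 : k f - f - w ∈ F ∙ e := Submodule.mem_span_singleton.2 ⟨c, by rw [e1]; abel⟩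
  refine ⟨k, hk, h.ratM_of_Rad he q hk f1 (e1 ▸ (f1.add hw).add (he.smul hc)) (by simp [f3]),
    fun f' hf' => ?_, fun x hx => ?_⟩
  · obtain ⟨l, hl⟩ := Rad_disp_eq hk f3 e2 f'
    exact Submodule.mem_span_singleton.2 ⟨l, by rw [hl, hf']; module⟩
  · obtain ⟨l, h4, h5⟩ := h.witt.Rad_perp_eq q hk e2 hx
    rw [h4, show l = -(B f e)⁻¹ * B w x by field_simp; exact h5]

theorem exists_ratRad {e w : V} (he : IsRat ε F₀ e) (q : Q e = Q 0) (h0 : e ≠ 0)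
    (hw : IsRat ε F₀ w) (hew : B e w = 0) : ∃ k ∈ Rad B Q e ⊤, RatM ε F₀ k ∧
      (∀ f, B e f = 1 → k f - f - w ∈ F ∙ e) ∧ ∀ x, B e x = 0 → B w x = 0 → k x = x :=
  let ⟨_, _, _, h1⟩ := h.exists_ratRad₀ he q h0
  let ⟨k, h2, h3, h4, h5⟩ := h1 w hw hew
  ⟨k, h2, h3, h4, fun x e1 e2 => by simp [h5 x e1, e2]⟩

theorem exists_ratM_map {e e' : V} (he : IsRat ε F₀ e) (q : Q e = Q 0) (h0 : e ≠ 0)
    (he' : IsRat ε F₀ e') (q' : Q e' = Q 0) (h0' : e' ≠ 0) :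
    ∃ k ∈ G, RatM ε F₀ k ∧ ∃ a ∈ F₀, a ≠ 0 ∧ k e = a • e' := by
  have := h.fd
  obtain ⟨y, y1, y2, y3⟩ : ∃ y, IsRat ε F₀ y ∧ B e y ≠ 0 ∧ B e' y ≠ 0 := by
    obtain ⟨f, f1, -, f2⟩ := h.exists_hyp he q h0
    obtain ⟨f', f3, -, f4⟩ := h.exists_hyp he' q' h0'
    by_cases e1 : B e' f = 0
    · by_cases e2 : B e f' = 0
      · exact ⟨f + f', f1.add f3, by simp [f2, e2], by simp [e1, f4]⟩
      · exact ⟨f', f3, e2, by simp [f4]⟩
    · exact ⟨f, f1, by simp [f2], e1⟩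
  have k0 : ∀ c y, IsRat ε F₀ c → Q c = Q 0 → B e c = 0 → B e' c = 0 → IsRat ε F₀ y → B e y ≠ 0 →
      B e' y ≠ 0 → B c y ≠ 0 → ∃ u, IsRat ε F₀ u ∧ Q u = Q 0 ∧ B e u ≠ 0 ∧ B e' u ≠ 0 :=
    fun c y c1 c2 c3 c4 y1 y2 y3 y4 =>
      let ⟨t, ht, u2⟩ := h.slide c y c1 y1 c2 y4
      ⟨_, y1.add (c1.smul ht), u2, by simpa [c3] using y2, by simpa [c4] using y3⟩
  obtain ⟨u, u1, u2, u3, u4⟩ : ∃ u, IsRat ε F₀ u ∧ Q u = Q 0 ∧ B e u ≠ 0 ∧ B e' u ≠ 0 := by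
    by_cases e0 : B e e' = 0
    · exact k0 e y he q (h.witt.self_eq_zero q) (h.witt.refl e0) y1 y2 y3 y2
    obtain ⟨c, c1, c3, c4, c5⟩ := h.perp₂ he he' q q' e0
    by_cases c2 : Q c = Q 0
    · by_cases e1 : B c y = 0
      · obtain ⟨d, d1, d2, d3⟩ := h.exists_dual (S := {e, e'}) (by simp [he, he']) c1 c5
        exact k0 c (y + d) c1 c2 c3 c4 (y1.add d1) (by simpa [d2 e (by simp)] using y2)
          (by simpa [d2 e' (by simp)] using y3) (by simp [e1, d3])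
      · exact k0 c y c1 c2 c3 c4 y1 y2 y3 e1
    obtain ⟨t, ht, u2⟩ := h.slide e (c + e') he (c1.add he') q (by simpa [c3] using e0)
    refine ⟨_, (c1.add he').add (he.smul ht), u2, by simpa [c3, h.witt.self_eq_zero q] using e0, ?_⟩
    have t0 : t ≠ 0 := by
      rintro rfl
      rw [zero_smul, add_zero, h.witt.norm_add_singular q' (h.witt.refl c4)] at u2
      exact c2 u2
    simpa [c4, h.witt.self_eq_zero q', t0] using mt h.witt.refl e0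
  replace u3 : B u e ≠ 0 := mt h.witt.refl u3
  replace u4 : B u e' ≠ 0 := mt h.witt.refl u4
  have a1 := div_mem (h.ratB _ _ u1 he) (h.ratB _ _ u1 he')
  obtain ⟨k, hk, e1⟩ := h.witt.exists_Rad u2 (A := ⊤) trivial (y := e)
    (y' := (B u e / B u e') • e') u3 (by simp [u4])
    ((h.witt.norm_smul_singular q' _).trans q.symm) trivial
  exact ⟨k, h.polar.rad_le u (by rintro rfl; simp at u3) u2 hk,
    h.ratM_of_Rad u1 u2 hk he (e1 ▸ he'.smul a1) u3, _, a1, div_ne_zero u3 u4, e1⟩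

theorem not_le : ¬ G ≤ RG ε F₀ := fun hle => by
  have := h.fd
  obtain ⟨e, e1, e2, e3⟩ := h.exists_sing
  obtain ⟨f, f1, f2, f3⟩ := h.exists_hyp e1 e2 e3
  obtain ⟨w, w1, -, w3, w4⟩ := h.perp₁ e1 e1
  obtain ⟨γ, hγ⟩ : ∃ γ, γ ∉ F₀ := by
    by_contra! hc
    exact h.ne_top (eq_top_iff.2 fun c _ => hc c)
  obtain ⟨k, hk, c, e4⟩ := h.witt.exists_Rad_add e2 (A := ⊤) trivial (y := f) (w := γ • w)
    (by simp [f3]) (by simp [w3]) trivial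
  obtain ⟨a, a0, ha⟩ := hle (h.polar.rad_le e e3 e2 hk)
  have h1 : a ∈ F₀ := e1.mem_of_smul e3 (by simpa [hk.2.1] using (ha e).1 e1)
  have h2 := (((ha f).1 f1).smul (inv_mem h1)).sub f1
  rw [inv_smul_smul₀ a0, e4, add_assoc, add_sub_cancel_left] at h2
  exact hγ (rat_coeff w1 e1 w4 h2)

end RF4

/-- An overgroup of the subfield subgroup. -/
structure RO4 (B : V →ₛₗ[σ] V →ₗ[F] F) (Q : V → F) (G : Subgroup (V ≃ₗ[F] V))
    (ε : V ≃ₗ[F] (ι → F)) (F₀ : Subfield F) (M : Subgroup (V ≃ₗ[F] V)) : Prop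
    extends RF4 B Q G ε F₀ where
  le : G ⊓ RG ε F₀ ≤ M
  le' : M ≤ G

namespace RO4

variable [Finite F] {B : V →ₛₗ[σ] V →ₗ[F] F} {Q : V → F} {G M : Subgroup (V ≃ₗ[F] V)}
  (h : RO4 B Q G ε F₀ M)
include h

theorem isom {g : V ≃ₗ[F] V} (hg : g ∈ M) : g ∈ Isom B Q := h.polar.le (h.le' hg)

theorem mapB {g : V ≃ₗ[F] V} (hg : g ∈ M) (x y : V) : B (g x) (g y) = B x y :=
  (mem_isom.1 (h.isom hg)).1 x y

theorem mapQ {g : V ≃ₗ[F] V} (hg : g ∈ M) (x : V) : Q (g x) = Q x :=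
  (mem_isom.1 (h.isom hg)).2 x

theorem mem_of_Rad {e : V} (q : Q e = Q 0) (h0 : e ≠ 0) {k : V ≃ₗ[F] V} (hk : k ∈ Rad B Q e ⊤)
    (hr : RatM ε F₀ k) : k ∈ M := h.le ⟨h.polar.rad_le e h0 q hk, hr.mem⟩

theorem ratRad {e w : V} (he : IsRat ε F₀ e) (q : Q e = Q 0) (h0 : e ≠ 0)
    (hw : IsRat ε F₀ w) (hew : B e w = 0) : ∃ k ∈ M, k ∈ Rad B Q e ⊤ ∧
      (∀ f, B e f = 1 → k f - f - w ∈ F ∙ e) ∧ ∀ x, B e x = 0 → B w x = 0 → k x = x :=
  let ⟨k, h1, h2, h3⟩ := h.exists_ratRad he q h0 hw hew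
  ⟨k, h.mem_of_Rad q h0 h1 h2, h1, h3⟩

theorem rd_rat {e w : V} (he : IsRat ε F₀ e) (q : Q e = Q 0) (h0 : e ≠ 0)
    (hw : IsRat ε F₀ w) (hew : B e w = 0) : RD B Q M e w :=
  let ⟨k, h1, h2, h3, _⟩ := h.ratRad he q h0 hw hew
  ⟨k, h1, h2, h3⟩

theorem G2 {e e' : V} (he : IsRat ε F₀ e) (q : Q e = Q 0) (h0 : e ≠ 0) (he' : IsRat ε F₀ e')
    (q' : Q e' = Q 0) (h0' : e' ≠ 0) {β : F} (hG : Gam B Q ε F₀ M e β) :
    Gam B Q ε F₀ M e' β := fun w hw hew => by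
  obtain ⟨k, k1, k2, a, a1, a0, k3⟩ := h.exists_ratM_map he q h0 he' q' h0'
  have kM : k ∈ M := h.le ⟨k1, k2.mem⟩
  have s0 : σ a ≠ 0 := (map_ne_zero σ).2 a0
  have := (hG (k⁻¹ ((σ a)⁻¹ • w)) (k2.inv _ (hw.smul (inv_mem (h.sig _ a1)))) (by
    rw [← h.mapB kM, apply_inv_apply, k3]; simp [hew])).map (h.isom kM) kM
  rw [k3, map_smul, apply_inv_apply] at this
  convert this.smul_base a0 using 1
  rw [smul_comm, smul_inv_smul₀ s0]

end RO4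

/-- An overgroup whose radicals at rational points are rational. -/
structure RP4 (B : V →ₛₗ[σ] V →ₗ[F] F) (Q : V → F) (G : Subgroup (V ≃ₗ[F] V))
    (ε : V ≃ₗ[F] (ι → F)) (F₀ : Subfield F) (M : Subgroup (V ≃ₗ[F] V)) : Prop
    extends RO4 B Q G ε F₀ M where
  P0 : ∀ {e y x : V}, IsRat ε F₀ e → Q e = Q 0 → e ≠ 0 → RD B Q M e y → IsRat ε F₀ x → B e x = 0 →
    B x y ∈ F₀
  PZ : ∀ {e : V}, IsRat ε F₀ e → Q e = Q 0 → e ≠ 0 → ∀ k ∈ M, k ∈ Rad B Q e (F ∙ e) → RatM ε F₀ k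

namespace RP4

variable [Finite F] {B : V →ₛₗ[σ] V →ₗ[F] F} {Q : V → F} {G M : Subgroup (V ≃ₗ[F] V)}
  (h : RP4 B Q G ε F₀ M)
include h

theorem P1 {e : V} (he : IsRat ε F₀ e) (q : Q e = Q 0) (h0 : e ≠ 0) {k : V ≃ₗ[F] V} (hM : k ∈ M)
    (hk : k ∈ Rad B Q e ⊤) : RatM ε F₀ k := by
  obtain ⟨f, -, -, f3⟩ := h.exists_hyp he q h0
  obtain ⟨y, y1, y2⟩ := h.rat_mod he fun x hx hex =>
    h.P0 he q h0 (RD.of (w := k f - f) hM hk f3 (by simp)) hx hex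
  obtain ⟨a, ha⟩ := Submodule.mem_span_singleton.1 y2
  obtain ⟨r, r1, r2, r3, -⟩ := h.exists_ratRad he q h0 y1 (by
    have := congrArg (B e) ha
    rw [map_sub, Rad_disp_perp hk] at this
    simpa [h.witt.self_eq_zero q] using this)
  obtain ⟨b, hb⟩ := Submodule.mem_span_singleton.1 (r3 f f3)
  have := r2.mul (h.PZ he q h0 _ (mul_mem (inv_mem (h.mem_of_Rad q h0 r1 r2)) hM)
    (IsWittPair.mem_Rad_self (mul_mem (inv_mem r1) hk) (x := f) (by simp [f3])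
      (Submodule.mem_span_singleton.2 ⟨a - b, by
        have e5 : k f = r (f + (a - b) • e) := by
          rw [map_add, map_smul, r1.2.1, sub_smul, ha, hb]; abel
        rw [LinearEquiv.mul_apply, e5, inv_apply_apply]; module⟩)))
  rwa [mul_inv_cancel_left] at this

theorem P2 {e : V} (he : IsRat ε F₀ e) (q : Q e = Q 0) (h0 : e ≠ 0) {k : V ≃ₗ[F] V} (hM : k ∈ M)
    {l : F} (hk : k e = l • e) :
    σ l * l ∈ F₀ ∧ ∀ v, IsRat ε F₀ v → IsRat ε F₀ (σ l • k v) := by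
  have := h.fd
  have l0 : l ≠ 0 := by rintro rfl; exact h0 (by simpa using hk)
  have s0 : σ l ≠ 0 := (map_ne_zero σ).2 l0
  obtain ⟨f, f1, f2, f3⟩ := h.exists_hyp he q h0
  have f4 : B f e ≠ 0 := fun e => by simp [h.witt.refl e] at f3
  have e0 := h.witt.self_eq_zero q
  have f0 := h.witt.self_eq_zero f2
  have e1 : B e (σ l • k f) = 1 := by
    have := h.mapB hM e f
    rw [hk, f3] at this
    simpa using this
  obtain ⟨k₁, r1, r2⟩ := h.witt.exists_Rad q (A := ⊤) trivial (y := f) (y' := σ l • k f)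
    (by simp [f3]) (e1.trans f3.symm)
    ((h.witt.norm_smul_singular ((h.mapQ hM f).trans f2) _).trans f2.symm) trivial
  have ri := inv_mem r1
  have hi : k₁⁻¹ * k ∈ Isom B Q := mul_mem ri.1 (h.isom hM)
  have a1 : (k₁⁻¹ * k) e = l • e := by rw [LinearEquiv.mul_apply, hk, map_smul, ri.2.1]
  have a2 : σ l • (k₁⁻¹ * k) f = f := by
    rw [LinearEquiv.mul_apply, ← map_smul, ← r2, inv_apply_apply]
  have a3 : ∀ w, IsRat ε F₀ w → B e w = 0 → B f w = 0 → IsRat ε F₀ (σ l • (k₁⁻¹ * k) w) :=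
    fun w hw h1 h2 => by
      have b1 := (h.rd_rat he q h0 hw h1).map (h.isom hM) hM
      rw [hk] at b1
      have b2 := b1.smul_base l0
      obtain ⟨c, hc⟩ := Submodule.mem_span_singleton.1
        (ri.2.2.1 _ (h.witt.RD_perp h0 q b2))
      have b3 : σ l • (k₁⁻¹ * k) w = σ l • k w + c • e := by
        rw [hc, LinearEquiv.mul_apply, ← map_smul]; abel
      refine h.rat_of fun x hx => ?_
      have c1 := h.ratB _ _ he hx
      have b4 := h.P0 he q h0 b2 (hx.sub (f1.smul c1)) (by simp [f3])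
      have b5 : B f (σ l • (k₁⁻¹ * k) w) = 0 := by
        rw [← a2]; simp only [map_smulₛₗ, LinearMap.smul_apply, (mem_isom.1 hi).1]; simp [h2]
      have b6 : B (x - B e x • f) e = 0 := h.witt.refl (by simp [f3])
      have b7 : ∀ y, B x y = B (x - B e x • f) y + σ (B e x) * B f y := fun y => by simp
      rw [b7, b5, b3, map_add, map_smul _ c, b6]
      simpa using b4
  have a4 : σ l * l ∈ F₀ := by
    obtain ⟨c, c1, c2, c3, c4⟩ := h.perp₂ he f1 q f2 (by simp [f3])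
    obtain ⟨d, d1, d2, d3⟩ := h.exists_dual (S := {e, f}) (by simp [he, f1]) c1 c4
    have := h.ratB _ _ (a3 c c1 c2 c3) (a3 d d1 (d2 e (by simp)) (d2 f (by simp)))
    simp only [map_smulₛₗ, LinearMap.smul_apply, (mem_isom.1 hi).1, d3, h.invol] at this
    simpa [mul_comm] using this
  have a5 : ∀ v, IsRat ε F₀ v → IsRat ε F₀ (σ l • (k₁⁻¹ * k) v) := fun v hv => by
    have c1 := h.ratB _ _ he hv
    have c2 := div_mem (h.ratB _ _ f1 hv) (h.ratB _ _ f1 he)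
    have := ((a3 _ ((hv.sub (f1.smul c1)).sub (he.smul c2)) (by simp [f3, e0])
      (by simp [f0, f4])).add (f1.smul c1)).add (he.smul (mul_mem c2 a4))
    convert this using 1
    rw [map_sub, map_sub, map_smul, map_smul, a1]
    linear_combination (norm := module) (B e v) • a2
  have m1 : k₁⁻¹ * k ∈ M :=
    h.le ⟨mul_mem (h.polar.rad_le e h0 q ri) (h.le' hM), mem_RG_of s0 a5⟩
  have m2 : k₁ ∈ M := by simpa using mul_mem hM (inv_mem m1)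
  refine ⟨a4, fun v hv => ?_⟩
  have := h.P1 he q h0 m2 r1 _ (a5 v hv)
  rwa [map_smul, LinearEquiv.mul_apply, apply_inv_apply] at this

theorem ratM_of_fix {e : V} (he : IsRat ε F₀ e) (q : Q e = Q 0) (h0 : e ≠ 0) {k : V ≃ₗ[F] V}
    (hM : k ∈ M) (hk : k e = e) : RatM ε F₀ k := fun v hv => by
  simpa using (h.P2 he q h0 hM (l := 1) (by simpa using hk)).2 v hv

theorem mem_RG_of_point {g : V ≃ₗ[F] V} (hg : g ∈ M) {z : V} (hz : IsRat ε F₀ z) (q : Q z = Q 0)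
    (h0 : z ≠ 0) {c : F} (c0 : c ≠ 0) (hc : IsRat ε F₀ (c • g z)) : g ∈ RG ε F₀ := by
  obtain ⟨k, k1, k2, a, -, a0, k3⟩ := h.exists_ratM_map hc
    (h.witt.norm_smul_singular ((h.mapQ hg z).trans q) c) (by simp [c0, h0]) hz q h0
  refine (Subgroup.mul_mem_cancel_left _ k2.mem).1 (mem_RG_of ((map_ne_zero σ).2
    (mul_ne_zero (inv_ne_zero c0) a0)) (h.P2 hz q h0 (mul_mem (h.le ⟨k1, k2.mem⟩) hg) ?_).2)
  rw [LinearEquiv.mul_apply, mul_smul, ← k3, map_smul, inv_smul_smul₀ c0]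

end RP4

end CF.MaxSub
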